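import Cfsg.Agent.S4528
import Cfsg.Agent.S4529
import Cfsg.Agent.S4530
import Cfsg.Agent.S4588
import Cfsg.Agent.Fgs2.MaxClass
import Cfsg.Agent.Char.PB

/-! Sylow `2`-subgroups with commutator index four give four odd degrees in the principal block. -/

set_option autoImplicit false
open Cfsg CF.Char CF.BlockB

namespace CF.K4

variable {G : Type*} [Group G] [Finite G] {M : Ideal AlgInt}

theorem four_dvd_pb (hM : IsPModular 2 M) (h4 : 4 ∣ Nat.card G) :
    4 ∣ Nat.card {χ : IrrCharacter G // χ ∈ principalBlock M G ∧ ¬ 2 ∣ charDegree (χ : G → ℂ)} := by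
  classical
  have h1 : 2 ^ 2 ∣ ∑ χ with χ ∈ principalBlock M G, charDegree (χ : G → ℂ) ^ 2 := by
    rw [← v_natCast_le_pow_iff hM]
    have h2 := regB_apply (principalBlock M G) 1
    simp only [← irr_charDegree_eq, ← sq] at h2
    push_cast
    rw [← h2, regB, map_mul]
    exact (mul_le_mul' ((v_natCast_le_pow_iff hM _ 2).2 h4)
      (nrm_le_iff.1 (nrm_eSet_pb hM) _)).trans_eq (mul_one _)
  rw [Nat.card_eq_fintype_card, Fintype.card_subtype, ← Finset.filter_filter, Finset.card_filter,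
    Nat.dvd_iff_mod_eq_zero, Finset.sum_nat_mod]
  rw [show 2 ^ 2 = 4 from rfl, Nat.dvd_iff_mod_eq_zero, Finset.sum_nat_mod] at h1
  refine Eq.trans (congrArg (· % 4) (Finset.sum_congr rfl fun χ _ => ?_)) h1
  generalize charDegree (χ : G → ℂ) = d
  obtain ⟨c, rfl | rfl⟩ := Nat.even_or_odd' d
  · rw [if_neg (by simp), show (2 * c) ^ 2 = 4 * c ^ 2 by ring, Nat.mul_mod_right]
  · rw [if_pos (by omega), show (2 * c + 1) ^ 2 = 1 + 4 * (c ^ 2 + c) by ring,
      Nat.add_mul_mod_self_left]

theorem card_height (hM : IsPModular 2 M) :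
    Nat.card {χ : IrrCharacter G // χ ∈ principalBlock M G ∧ ¬ 2 ∣ charDegree (χ : G → ℂ)} =
      Nat.card {χ : IrrCharacter G // χ ∈ principalBlock M G ∧
        blockHeight 2 (principalBlock M G) (χ : G → ℂ) = 0} := by
  refine Nat.card_congr (Equiv.subtypeEquivRight fun χ => and_congr_right fun _ =>
    ⟨blockHeight_of_not_dvd _, fun h0 h1 => ?_⟩)
  rw [blockHeight_eq, minExp_principal hM, Nat.sub_zero] at h0
  exact (Nat.prime_two.factorization_pos_of_dvd (irr_charDegree_ne_zero χ) h1).ne' h0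

theorem of_index_four' (hM : IsPModular 2 M) (P : Sylow 2 G) (h : (commutator ↥P).index = 4) :
    Nat.card {χ : IrrCharacter G // χ ∈ principalBlock M G ∧ ¬ 2 ∣ charDegree (χ : G → ℂ)} = 4 := by
  by_cases hna : IsMulCommutative ↥P
  · rw [(commutator_eq_bot_iff ↥P).2 hna, Subgroup.index_bot] at h
    have h1 := four_dvd_pb hM (h ▸ (P : Subgroup G).card_subgroup_dvd_card)
    have h2 := Cfsg.Agent.S4588.result (G := G) 2 M hM ⟨1, ⟨0, orderOf_one⟩, by
      have h3 : 2 ^ 2 = 2 ^ (Nat.card G).factorization 2 := h.symm.trans P.card_eq_multiplicity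
      have h4 : (Nat.card G).factorization 2 = 2 := Nat.pow_right_injective le_rfl h3.symm
      exact (Nat.factorization_le_factorization_of_dvd_right
        (Subgroup.card_subgroup_dvd_card (Subgroup.centralizer ({1} : Set G))) Nat.card_pos.ne'
        Nat.card_pos.ne').trans h4.le⟩
    have : Nonempty {χ : IrrCharacter G // χ ∈ principalBlock M G ∧
        ¬ 2 ∣ charDegree (χ : G → ℂ)} :=
      ⟨oneIrr G, oneIrr_mem_principalBlock hM, by rw [charDegree_oneIrr]; norm_num⟩
    exact le_antisymm h2 (Nat.le_of_dvd Nat.card_pos h1)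
  obtain ⟨D, hD⟩ := exists_defectGroup hM (isPBlock_principalBlock (G := G))
  have h1 := card_defectGroup hM isPBlock_principalBlock hD
  rw [blockDefect_principal hM] at h1
  have e : D ≃* P := Sylow.equiv (Sylow.ofCard D h1) P
  have h2 : (commutator D).index = 4 := (Nat.card_congr e.abelianizationCongr.toEquiv).trans h
  have h3 : ¬ IsMulCommutative D := fun h4 => hna ⟨⟨fun a b => e.symm.injective (by
    rw [map_mul, map_mul, h4.1.1])⟩⟩
  rw [card_height hM]
  obtain ⟨n, a, c, hn, hc, ha, hi, hca, h⟩ :=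
    CF.Fgs2.taussky (IsDefectGroup.isPGroup hD) h2 h3
  rcases h.nonempty_equiv (by omega) ha hi hca with h1 | h1 | ⟨-, m, hm, h1, h4⟩
  · exact (Cfsg.Agent.S4528.result M hM _ isPBlock_principalBlock D hD (n + 1) (by omega)
      h1.2.2).2.2.2.1
  · exact (Cfsg.Agent.S4530.result M hM _ isPBlock_principalBlock D hD (n + 1) (by omega)
      h1).2.2.2.1
  · exact (Cfsg.Agent.S4529.result M hM _ isPBlock_principalBlock D hD (m + 1) (by omega)
      h1 ⟨m, hm, h1, h4⟩).2.2.2.2.2.1

theorem of_index_four (hM : IsPModular 2 M) (P : Sylow 2 G) (_hc : ¬ IsCyclic P)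
    (h : (commutator ↥P).index = 4) :
    Nat.card {χ : IrrCharacter G // χ ∈ principalBlock M G ∧ ¬ 2 ∣ charDegree (χ : G → ℂ)} = 4 :=
  of_index_four' hM P h

end CF.K4
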