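import Cfsg.Agent.K4.A
import Cfsg.Agent.K4.B
import Cfsg.Agent.K4.N
import Cfsg.Agent.K4.R

/-!
# Four characters of odd degree in the principal 2-block
-/

set_option autoImplicit false
open Cfsg

namespace CF.K4

variable {G : Type*} [Group G] [Finite G]

theorem eight_dvd (P : Sylow 2 G) (hc : ¬ IsCyclic P) (hi : (commutator ↥P).index ≠ 4) :
    8 ∣ Nat.card G := by
  obtain ⟨n, hn⟩ := IsPGroup.iff_card.1 P.isPGroup'
  refine dvd_trans ?_ (Subgroup.card_subgroup_dvd_card (P : Subgroup G))
  rw [hn]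
  refine pow_dvd_pow 2 (show 3 ≤ n from ?_)
  by_contra h
  obtain rfl | rfl | rfl : n = 0 ∨ n = 1 ∨ n = 2 := by omega
  · have : Subsingleton P := (Nat.card_eq_one_iff_unique.1 hn).1
    exact hc inferInstance
  · exact hc (isCyclic_of_prime_card (p := 2) hn)
  · have := IsPGroup.isMulCommutative_of_card_eq_prime_sq (p := 2) hn
    refine hi ?_
    have e : commutator ↥P = ⊥ := (commutator_eq_bot_iff _).2 this
    rw [e, Subgroup.index_bot]
    exact hn

theorem two_half (M : Ideal AlgInt) (hM : IsPModular 2 M) (P : Sylow 2 G) :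
    Nat.card {χ : IrrCharacter G // χ ∈ principalBlock M G ∧
      ¬ 2 ∣ charDegree (χ : G → ℂ)} = 4 ↔ (commutator ↥P).index = 4 := by
  by_cases hc : IsCyclic P
  · rw [k0_npc hM P (npc_of_cyclic P hc)]
  refine ⟨fun h => ?_, of_index_four hM P hc⟩
  by_contra hi
  have h8 := eight_dvd P hc hi
  exact hi ((k0_npc hM P (npc_of_four hM P hc hi h8
    (eight_dvd_out hM (by omega)) h)).symm.trans h)

end CF.K4
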